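/-
Relative M-characters.

* `classInner_sub_ne_zero` : a constituent keeps its constituents under further restriction
* `restrict_irr_of_induced` : if `indFun H ψ` stays irreducible on `N` then so does `ψ` on `N ∩ H`
* `inertia_top_or_induced` : primitive behaviour over a normal subgroup
* `indFun_through` : pushing an induced character through `Subgroup.map`
-/
import Cfsg.Agent.Lib.CharApp.Clifford
import Cfsg.Agent.Lib.Char.Monomial

set_option autoImplicit false

namespace Cfsg.Agent.RelMonomial

open Cfsg Cfsg.Agent.Char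
open scoped ComplexConjugate

variable {G : Type*} [Group G] [Fintype G]

/-- If `ψ` occurs in `π`, then `π` and `ψ` have a common constituent on every subgroup. -/
theorem classInner_sub_ne_zero {S : Subgroup G} [Fintype S] {π ψ : G → ℂ} (hπ : IsCharacter G π)
    (hψ : IsIrrCharacter G ψ) (h : classInner π ψ ≠ 0) :
    classInner (fun x : S => π x) (fun x : S => ψ x) ≠ 0 := by
  classical
  haveI := Fintype.ofFinite (IrrCharacter G)
  obtain ⟨c, hc, hin⟩ := IsCharacter.decompose hπ
  choose f hf using fun φ : IrrCharacter G => IsCharacter.classInner_nat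
    (IsCharacter.restrict (IsIrrCharacter.isCharacter φ.2) S)
    (IsCharacter.restrict (IsIrrCharacter.isCharacter hψ) S)
  have hrw : (fun x : S => π x) = ∑ φ : IrrCharacter G, (c φ : ℂ) • fun x : S => (φ : G → ℂ) x := by
    funext x
    have := congrFun hc (x : G)
    simpa [Finset.sum_apply] using this
  intro h0
  rw [hrw, classInner_sum_left] at h0
  simp only [classInner_smul_left, hf] at h0
  have h1 : ∑ φ, c φ * f φ = 0 := by exact_mod_cast h0
  rcases mul_eq_zero.1 (Finset.sum_eq_zero_iff.1 h1 ⟨ψ, hψ⟩ (Finset.mem_univ _)) with h2 | h2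
  · exact h (by have := hin ⟨ψ, hψ⟩; rw [h2, Nat.cast_zero] at this; exact this)
  · have h3 := hf ⟨ψ, hψ⟩
    rw [h2, Nat.cast_zero, classInner_self_eq_zero] at h3
    exact IsIrrCharacter.apply_one_ne_zero hψ (congrFun h3 1)

/-- Irreducibility of the inducing character on `N ∩ H`. -/
theorem restrict_irr_of_induced {N H : Subgroup G} [N.Normal] [Fintype H] {ψ : H → ℂ}
    (hψ : IsIrrCharacter H ψ) (hind : IsIrrCharacter G (indFun H ψ))
    (hres : IsIrrCharacter N (fun n : N => indFun H ψ n)) :
    IsIrrCharacter (N.subgroupOf H) (fun x : N.subgroupOf H => ψ x) := by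
  classical
  haveI := Fintype.ofFinite N
  haveI := Fintype.ofFinite (N.subgroupOf H)
  haveI := Fintype.ofFinite (H.subgroupOf N)
  set χ := indFun H ψ with hχ
  have hψc := IsIrrCharacter.isCharacter hψ
  let E : H.subgroupOf N ≃* N.subgroupOf H :=
    { toFun := fun x => ⟨⟨((x : N) : G), x.2⟩, Subgroup.mem_subgroupOf.2 (x : N).2⟩
      invFun := fun x => ⟨⟨((x : H) : G), x.2⟩, Subgroup.mem_subgroupOf.2 (x : H).2⟩
      left_inv := fun x => rfl
      right_inv := fun x => rfl
      map_mul' := fun x y => rfl }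
  set π : H.subgroupOf N → ℂ := fun x => ψ (E x : H) with hπ
  have hπc : IsCharacter (H.subgroupOf N) π :=
    IsCharacter.comp_equiv (IsCharacter.restrict hψc (N.subgroupOf H)) E
  -- `θ` occurs in the induced character
  have hne : classInner (fun x : N.subgroupOf H => χ ((x : H) : G)) (fun x : N.subgroupOf H => ψ x) ≠ 0 := by
    refine classInner_sub_ne_zero (π := fun x : H => χ x)
      (IsCharacter.restrict (IsIrrCharacter.isCharacter hind) H) hψ ?_
    rw [← frobenius_reciprocity' H ψ (IsIrrCharacter.isClassFunction hind), ← hχ,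
      classInner_irr_self hind]
    exact one_ne_zero
  rw [← classInner_comp_equiv E] at hne
  have hne' : classInner (indFun (H.subgroupOf N) π) (fun n : N => χ n) ≠ 0 := by
    rw [frobenius_reciprocity _ _ (IsIrrCharacter.isClassFunction hres)]
    intro h0
    exact hne (by rw [← classInner_conj_symm]; exact (congrArg conj h0).trans (map_zero _))
  obtain ⟨d, hd0, hd⟩ := IsIrrCharacter.exists_degree hψ
  have hindc : IsCharacter N (indFun (H.subgroupOf N) π) := IsCharacter.indFun _ hπc
  have ha : indFun (H.subgroupOf N) π 1 = (((H.subgroupOf N).index * d : ℕ) : ℂ) := by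
    rw [indFun_one_apply, show π 1 = ψ 1 from congrArg ψ (Subtype.ext rfl), hd]
    push_cast; rfl
  have hb : χ ((1 : N) : G) = ((H.index * d : ℕ) : ℂ) := by
    rw [OneMemClass.coe_one, hχ, indFun_one_apply, hd]
    push_cast; rfl
  have hle : (H.subgroupOf N).index ≤ H.index := by
    have := Subgroup.relIndex_le_of_le_right (H := H) (le_top : N ≤ ⊤)
      (by rw [Subgroup.relIndex_top_right]; exact Subgroup.index_ne_zero_of_finite)
    rwa [Subgroup.relIndex_top_right] at this
  obtain ⟨m, hm⟩ := IsCharacter.classInner_nat hindc (IsIrrCharacter.isCharacter hres)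
  have hm0 : m ≠ 0 := fun h => hne' (by rw [hm, h, Nat.cast_zero])
  have hge : H.index * d ≤ (H.subgroupOf N).index * d :=
    le_trans (Nat.le_mul_of_pos_left _ (Nat.pos_of_ne_zero hm0))
      (CharApp.classInner_nat_le_degree hindc hres hm ha hb)
  have heq : (H.subgroupOf N).index * d = H.index * d :=
    le_antisymm (Nat.mul_le_mul_right d hle) hge
  rw [heq] at ha
  have hindeq := CharApp.eq_of_constituent_of_degree hindc hres hne' ha hb
  -- hence the inducing character has norm one
  obtain ⟨η, hη⟩ := CharApp.exists_constituent hπc (by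
    rw [show π 1 = ψ 1 from congrArg ψ (Subtype.ext rfl)]
    exact IsIrrCharacter.apply_one_ne_zero hψ)
  haveI := Fintype.ofFinite (IrrCharacter (H.subgroupOf N))
  obtain ⟨c, hc, hin⟩ := IsCharacter.decompose hπc
  have hexp : indFun (H.subgroupOf N) π =
      ∑ φ : IrrCharacter (H.subgroupOf N), (c φ : ℂ) • indFun (H.subgroupOf N) (φ : _ → ℂ) := by
    rw [hc, indFun_sum]
    exact Finset.sum_congr rfl fun φ _ => indFun_smul _ _ _
  choose f hf using fun φ : IrrCharacter (H.subgroupOf N) => IsCharacter.classInner_nat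
    (IsCharacter.indFun (H.subgroupOf N) (IsIrrCharacter.isCharacter φ.2)) hindc
  have hfpos : ∀ φ, c φ ≠ 0 → 0 < f φ := by
    intro φ hcφ
    refine Nat.pos_of_ne_zero fun h0 => ?_
    have hk : classInner (indFun (H.subgroupOf N) π) (indFun (H.subgroupOf N) (φ : _ → ℂ)) = 0 := by
      rw [← classInner_conj_symm, hf φ, h0, Nat.cast_zero, map_zero]
    -- `φ` induces to a character below `π`
    obtain ⟨g, hg⟩ := IsCharacter.classInner_nat
      (IsCharacter.indFun (H.subgroupOf N) (IsIrrCharacter.isCharacter φ.2))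
      (IsCharacter.indFun (H.subgroupOf N) (IsIrrCharacter.isCharacter φ.2))
    choose k hk' using fun φ' : IrrCharacter (H.subgroupOf N) => IsCharacter.classInner_nat
      (IsCharacter.indFun (H.subgroupOf N) (IsIrrCharacter.isCharacter φ'.2))
      (IsCharacter.indFun (H.subgroupOf N) (IsIrrCharacter.isCharacter φ.2))
    rw [hexp, classInner_sum_left] at hk
    simp only [classInner_smul_left, hk'] at hk
    have h1 : ∑ φ', c φ' * k φ' = 0 := by exact_mod_cast hk
    have h2 := (mul_eq_zero.1 (Finset.sum_eq_zero_iff.1 h1 φ (Finset.mem_univ _))).resolve_left hcφ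
    have h3 := hk' φ
    rw [h2, Nat.cast_zero, classInner_self_eq_zero] at h3
    have h4 := congrFun h3 1
    rw [indFun_one_apply] at h4
    exact mul_ne_zero (Nat.cast_ne_zero.2 Subgroup.index_ne_zero_of_finite)
      (IsIrrCharacter.apply_one_ne_zero φ.2) h4
  have hnorm : classInner (indFun (H.subgroupOf N) π) (indFun (H.subgroupOf N) π) = 1 := by
    rw [hindeq]; exact classInner_irr_self hres
  nth_rewrite 1 [hexp] at hnorm
  rw [classInner_sum_left] at hnorm
  simp only [classInner_smul_left, hf] at hnorm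
  have hone : ∑ φ, c φ * f φ = 1 := by exact_mod_cast hnorm
  have hcη : c η ≠ 0 := fun h => hη (by rw [hin η, h, Nat.cast_zero])
  rw [← Finset.add_sum_erase _ _ (Finset.mem_univ η)] at hone
  have hpos : 0 < c η * f η := Nat.mul_pos (Nat.pos_of_ne_zero hcη) (hfpos η hcη)
  have hrest : ∀ φ ∈ Finset.univ.erase η, c φ = 0 := by
    intro φ hφ
    by_contra hcφ
    have := Finset.single_le_sum (f := fun φ => c φ * f φ) (fun _ _ => Nat.zero_le _) hφ
    have := Nat.mul_pos (Nat.pos_of_ne_zero hcφ) (hfpos φ hcφ)
    omega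
  have hcη1 : c η = 1 := Nat.eq_one_of_mul_eq_one_right (m := c η) (n := f η) (by omega)
  have hπη : π = (η : _ → ℂ) := by
    rw [hc, ← Finset.add_sum_erase _ _ (Finset.mem_univ η),
      Finset.sum_eq_zero fun φ hφ => by rw [hrest φ hφ, Nat.cast_zero, zero_smul], hcη1,
      Nat.cast_one, one_smul, add_zero]
  have hπirr : IsIrrCharacter (H.subgroupOf N) π := hπη ▸ η.2
  have h := IsIrrCharacter.comp_equiv hπirr E.symm
  convert h using 1
  funext x
  simp [π]

/-- Induction from a subgroup of a subgroup. -/
theorem indFun_through (T : Subgroup G) [Fintype T] (S : Subgroup T) (θ : S → ℂ) :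
    indFun T (indFun S θ) = indFun (S.map T.subtype)
      (fun x => θ ((S.equivMapOfInjective T.subtype T.subtype_injective).symm x)) :=
  indFun_map_subtype T S θ

/-- A character with irreducible restriction to `N` either is homogeneous on the normal subgroup
`A`, or is induced from a proper subgroup with the inducing character irreducible on `N ∩ S`. -/
theorem inertia_top_or_induced {N A : Subgroup G} [N.Normal] [A.Normal] [Fintype A] {χ : G → ℂ}
    (hχ : IsIrrCharacter G χ) (hres : IsIrrCharacter N (fun n : N => χ n)) :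
    (∃ S : Subgroup G, S ≠ ⊤ ∧ ∃ ψ : S → ℂ, IsIrrCharacter S ψ ∧ indFun S ψ = χ ∧
      IsIrrCharacter (N.subgroupOf S) (fun x : N.subgroupOf S => ψ x)) ∨
    ∃ lam : A → ℂ, IsIrrCharacter A lam ∧ ∃ e : ℕ, e ≠ 0 ∧ (fun a : A => χ a) = (e : ℂ) • lam := by
  classical
  have hχc := IsIrrCharacter.isCharacter hχ
  obtain ⟨lam, hlam⟩ := CharApp.exists_constituent (IsCharacter.restrict hχc A)
    (IsIrrCharacter.apply_one_ne_zero hχ)
  by_cases hT : CharApp.inertia A (lam : A → ℂ) = ⊤
  · right
    obtain ⟨e, he⟩ := IsCharacter.classInner_nat (IsCharacter.restrict hχc A)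
      (IsIrrCharacter.isCharacter lam.2)
    refine ⟨lam, lam.2, e, fun h => hlam (by rw [he, h, Nat.cast_zero]), ?_⟩
    rw [← he]
    exact CharApp.restrict_invariant A hχ lam.2 hlam fun x =>
      (CharApp.mem_inertia A).1 (hT ▸ Subgroup.mem_top x)
  · left
    obtain ⟨ψ, hψ, hind, -, -⟩ := CharApp.exists_correspondent A lam.2 hχ hlam
    exact ⟨_, hT, ψ, hψ, hind, restrict_irr_of_induced hψ (hind.symm ▸ hχ) (hind.symm ▸ hres)⟩

end Cfsg.Agent.RelMonomial
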